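import Cfsg.Agent.H566.NoE.Tool
import Cfsg.Agent.LThreeFi22.Inst
import Cfsg.Agent.CTwoTab.Fi22
import Cfsg.Agent.S1685
import Cfsg.Agent.S1686
import Cfsg.Agent.S0295

/-!
# S3846: `Fi22` (helper566)
-/

set_option autoImplicit false

namespace Cfsg.Agent.H566.NoE

open Cfsg Subgroup Cfsg.Agent.H459.Rad Cfsg.Agent.H301.SY

/-- the radical of a quasisimple subgroup is central -/
theorem rad_quasi {K : Type*} [Group K] [Finite K] {M : Subgroup K} (hq : IsQuasisimple M) :
    Nat.card (radIn M) ∣ Nat.card ↥(center M) := by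
  have h1 : solvableRadical M ≤ center M := by
    rcases Cfsg.Agent.SignalizersComponents.Components.quasisimple_normal hq _ (rad_normal M) with h2 | h2
    · exact absurd (rad_eq_top_iff.1 h2)
        (Cfsg.Agent.SignalizersComponents.Components.quasisimple_not_isSolvable hq)
    · exact h2
  have h2 : Nat.card (radIn M) = Nat.card (solvableRadical M) :=
    Subgroup.card_map_of_injective M.subtype_injective
  rw [h2]
  exact Subgroup.card_dvd_of_le h1

/-- the centralizer of a transposition -/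
theorem fi22_cent {d : Spor.Fi22} (hd : d ∈ Cfsg.Agent.R08.AutT.T) :
    Nat.card ↥(centralizer ({d} : Set Spor.Fi22)) = 18393661440 ∧
      Nat.card (radIn (centralizer ({d} : Set Spor.Fi22))) ∣ 2 := by
  have hfin := Cfsg.Agent.CTwoTab.Fi22.finite
  obtain ⟨b, c, ht⟩ := Cfsg.Agent.StdFi22.MainFi22.bas.exists_tri hd
  obtain ⟨R, F⟩ := Cfsg.Agent.CTwoTab.Fi22.facts hd ht.my ht.xy ht.cxy
  refine ⟨Cfsg.Agent.CTwoTab.Fi22.card_cent F, ?_⟩
  have h1 := rad_quasi F.quasi
  rwa [Cfsg.Agent.CTwoTab.Fi22.card_center F] at h1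

theorem fi22_sub {p : ℕ} [hp : Fact p.Prime] (hp5 : 5 ≤ p) : NoE p Spor.Fi22 := by
  have hfin := Cfsg.Agent.CTwoTab.Fi22.finite
  have C := Cfsg.Agent.LThreeFi22.Inst.ctx (MulEquiv.refl Spor.Fi22)
  have hK : Nat.card Spor.Fi22 = 64561751654400 := C.card
  have hr : ∀ n : ℕ, n ∣ 2 → ¬ p ∣ n := by
    intro n hn hpn
    have := Nat.le_of_dvd (by norm_num) (hpn.trans hn)
    omega
  by_cases h5 : p = 5
  · subst h5
    refine NoE.of_sub fun x hx => ?_
    obtain ⟨t, ht, htx⟩ := C.ex5 x (by rw [← hx]; exact pow_orderOf_eq_one x) (by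
      rintro rfl
      rw [orderOf_one] at hx
      norm_num at hx)
    have ht' : t ∈ Cfsg.Agent.R08.AutT.T := by
      obtain ⟨s, hs, hst⟩ := ht
      have : s = t := hst
      rw [← this]
      exact hs
    obtain ⟨h1, h2⟩ := fi22_cent ht'
    refine ⟨centralizer ({t} : Set Spor.Fi22), ?_, mem_centralizer_singleton_iff.2 htx, hr _ h2⟩
    intro htop
    rw [htop, card_top, hK] at h1
    norm_num at h1
  by_cases h13 : p = 13
  · subst h13
    obtain ⟨e⟩ := Cfsg.Agent.S1686.result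
    have h2 := Cfsg.Agent.S0295.result (F := ZMod 3) (by rw [ZMod.card]; decide) 3 le_rfl
    have hidx := Subgroup.card_mul_index (((Subgroup.closure ({Cfsg.Spor.Fi22.b, Cfsg.Spor.Fi22.c, Cfsg.Spor.Fi22.d, Cfsg.Spor.Fi22.e, Cfsg.Spor.Fi22.f, Cfsg.Spor.Fi22.g, Cfsg.Spor.Fi22.h, Cfsg.Spor.Fi22.i} : Set (FreeGroup Cfsg.Spor.Fi22.Gen))).map (PresentedGroup.mk (Cfsg.Spor.coxRelators Cfsg.Spor.Fi22.edges ∪ {r | r ∈ Cfsg.Spor.Fi22.extra}))))
    rw [Cfsg.Agent.S1685.result] at hidx
    have hi := hidx.trans hK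
    have hc : Nat.card (Cfsg.POmega (ZMod 3) (Cfsg.quadFormOdd 3 (ZMod 3))) = 4585351680 := by
      refine (Nat.card_congr e.toEquiv).symm.trans ?_
      exact Nat.eq_of_mul_eq_mul_right (by norm_num : 0 < 14080)
        (hi.trans (by norm_num : 64561751654400 = 4585351680 * 14080))
    have hfinQ : Finite (Cfsg.POmega (ZMod 3) (Cfsg.quadFormOdd 3 (ZMod 3))) :=
      Nat.finite_of_card_ne_zero (by rw [hc]; norm_num)
    refine of_index ?_ ?_ (rad_simple (not_solvable (not_comm ?_)) e)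
    · intro ht
      have h3 := Cfsg.Agent.S1685.result
      rw [ht, Subgroup.index_top] at h3
      norm_num at h3
    · rw [Cfsg.Agent.S1685.result]
      norm_num
    · rw [hc]
      norm_num
  · obtain ⟨t, ht⟩ : ∃ t : Spor.Fi22, t ∈ Cfsg.Agent.R08.AutT.T := by
      obtain ⟨a, ha, -⟩ := C.mupos
      obtain ⟨s, hs, hst⟩ := ha
      exact ⟨s, hs⟩
    obtain ⟨h1, h2⟩ := fi22_cent ht
    have hidx := Subgroup.card_mul_index (centralizer ({t} : Set Spor.Fi22))
    rw [h1, hK] at hidx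
    have hi : (centralizer ({t} : Set Spor.Fi22)).index = 3510 := by omega
    refine of_index ?_ ?_ (hr _ h2)
    · intro htop
      rw [htop, card_top, hK] at h1
      norm_num at h1
    · rw [hi]
      intro hd
      have h1 : (3510 : ℕ) = 2 * 3 * (3 * 3) * (5 * 13) := by norm_num
      rw [h1] at hd
      have h2 := hp.out.prime
      rcases h2.dvd_or_dvd hd with hd | hd
      · rcases h2.dvd_or_dvd hd with hd | hd
        · rcases h2.dvd_or_dvd hd with hd | hd
          · have := Nat.le_of_dvd (by norm_num) hd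
            omega
          · have := Nat.le_of_dvd (by norm_num) hd
            omega
        · rcases h2.dvd_or_dvd hd with hd | hd <;>
          · have := Nat.le_of_dvd (by norm_num) hd
            omega
      · rcases h2.dvd_or_dvd hd with hd | hd
        · exact h5 ((Nat.prime_dvd_prime_iff_eq hp.out (by norm_num)).1 hd)
        · exact h13 ((Nat.prime_dvd_prime_iff_eq hp.out (by norm_num)).1 hd)

theorem noE_fi22 {K : Type*} [Group K] [Finite K] [IsSimpleGroup K] (h : Cfsg.Spor.IsoFi22 K) {p : ℕ}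
    [hp : Fact p.Prime] (hp5 : 5 ≤ p) (_hb : Cfsg.Agent.H301.SY.Blk p K) (_hO : Cfsg.Agent.H301.SY.ThO p K) :
    Cfsg.Agent.H301.SY.NoE p K := by
  obtain ⟨e⟩ := h
  have hfin := Cfsg.Agent.CTwoTab.Fi22.finite
  exact (fi22_sub hp5).congr e

end Cfsg.Agent.H566.NoE
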