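import Cfsg.Agent.H566.NoE.Tool
import Cfsg.Agent.S1679
import Cfsg.Agent.S1055
import Cfsg.Agent.S1059
import Cfsg.Agent.H393.Iso.Suz

/-!
# S3846: `Suz` (helper566)
-/

set_option autoImplicit false

namespace Cfsg.Agent.H566.NoE

open Cfsg Subgroup Cfsg.Agent.H459.Rad Cfsg.Agent.H301.SY

/-- `G₂(4)` in `Suz` -/
theorem suz_sub {p : ℕ} [hp : Fact p.Prime] [Finite Spor.Suz] (hK : Nat.card Spor.Suz = 448345497600)
    (h : ¬ p ∣ 1782) : NoE p Spor.Suz := by
  obtain ⟨F, _, _, hF, ⟨e⟩⟩ := Cfsg.Agent.S1679.result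
  have hF' : ∃ a : F, a ≠ 0 ∧ a ≠ 1 := by
    classical
    by_contra hcon
    push Not at hcon
    have h1 : (Finset.univ : Finset F) ⊆ {0, 1} := by
      intro a _
      rw [Finset.mem_insert, Finset.mem_singleton]
      by_cases h0 : a = 0
      · exact Or.inl h0
      · exact Or.inr (hcon a h0)
    have h2 := Finset.card_le_card h1
    rw [Finset.card_univ, hF] at h2
    have h3 : ({0, 1} : Finset F).card ≤ 2 := Finset.card_le_two
    omega
  obtain ⟨hs, hna⟩ := Cfsg.Agent.S1055.result hF'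
  have hc : Nat.card ↥(Lie.chevG2.group F) = 251596800 := by
    rw [Cfsg.Agent.S1059.result (F := F) (q := 4) hF]
    norm_num
  have hfin : Finite ↥(Lie.chevG2.group F) := Nat.finite_of_card_ne_zero (by rw [hc]; norm_num)
  have hL := Nat.card_congr e.toEquiv
  rw [hc] at hL
  have hidx := Subgroup.card_mul_index (((Subgroup.closure ({Cfsg.Spor.Suz.a, Cfsg.Spor.Suz.b, Cfsg.Spor.Suz.c, Cfsg.Spor.Suz.d, Cfsg.Spor.Suz.e, Cfsg.Spor.Suz.f} : Set (FreeGroup Cfsg.Spor.Suz.Gen))).map (PresentedGroup.mk (Cfsg.Spor.coxRelators Cfsg.Spor.Suz.edges ∪ {r | r ∈ Cfsg.Spor.Suz.extra}))))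
  rw [hL] at hidx
  have hi := hidx.trans hK
  refine of_index ?_ ?_ (rad_simple (not_solvable hna) e)
  · intro ht
    rw [ht, Subgroup.index_top] at hi
    norm_num at hi
  · intro hd
    apply h
    have h2 : Subgroup.index (((Subgroup.closure ({Cfsg.Spor.Suz.a, Cfsg.Spor.Suz.b, Cfsg.Spor.Suz.c, Cfsg.Spor.Suz.d, Cfsg.Spor.Suz.e, Cfsg.Spor.Suz.f} : Set (FreeGroup Cfsg.Spor.Suz.Gen))).map (PresentedGroup.mk (Cfsg.Spor.coxRelators Cfsg.Spor.Suz.edges ∪ {r | r ∈ Cfsg.Spor.Suz.extra})))) = 1782 := by omega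
    rwa [h2] at hd

theorem noE_suz {K : Type*} [Group K] [Finite K] [IsSimpleGroup K] (h : Cfsg.Spor.IsoSuz K) {p : ℕ}
    [hp : Fact p.Prime] (hp5 : 5 ≤ p) (hb : Cfsg.Agent.H301.SY.Blk p K) (hO : Cfsg.Agent.H301.SY.ThO p K) :
    Cfsg.Agent.H301.SY.NoE p K := by
  have hK : Nat.card K = 448345497600 := by
    obtain ⟨e⟩ := h
    rw [Nat.card_congr e.toEquiv]
    exact Cfsg.Agent.SporadicRecognition.SuzOrder.card_Suz
  by_cases hd : p ∣ 1782
  · -- `p = 11`
    have hp11 : p = 11 := by
      have h1 : (1782 : ℕ) = 2 * 3 * (3 * 3) * (3 * 11) := by norm_num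
      rw [h1] at hd
      have h2 := hp.out.prime
      rcases h2.dvd_or_dvd hd with hd | hd
      · rcases h2.dvd_or_dvd hd with hd | hd
        · rcases h2.dvd_or_dvd hd with hd | hd
          · have := Nat.le_of_dvd (by norm_num) hd
            omega
          · have := Nat.le_of_dvd (by norm_num) hd
            omega
        · rcases h2.dvd_or_dvd hd with hd | hd <;>
          · have := Nat.le_of_dvd (by norm_num) hd
            omega
      · rcases h2.dvd_or_dvd hd with hd | hd
        · have := Nat.le_of_dvd (by norm_num) hd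
          omega
        · exact (Nat.prime_dvd_prime_iff_eq hp.out (by norm_num)).1 hd
    subst hp11
    have hna : ¬ IsMulCommutative K := not_comm (by rw [hK]; norm_num)
    have hcyc : ∀ P : Sylow 11 K, IsCyclic (P : Subgroup K) := cyclic_of_card (by rw [hK]; norm_num)
    refine NoE.of_m0 hna hcyc fun x hx hR hY => m0_num hcyc hb hO hx hR hY fun t ht htp htd => ?_
    have hcases : t = 2 ∨ t = 5 := by
      have h1 : t ∣ 2 * 5 := by simpa using htd
      rcases (Nat.Prime.dvd_mul ht).1 h1 with h2 | h2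
      · exact Or.inl ((Nat.prime_dvd_prime_iff_eq ht (by norm_num)).1 h2)
      · exact Or.inr ((Nat.prime_dvd_prime_iff_eq ht (by norm_num)).1 h2)
    rcases hcases with rfl | rfl
    · right
      have h2 : Fact (Nat.Prime 2) := ⟨by norm_num⟩
      obtain ⟨T⟩ : Nonempty (Sylow 2 K) := inferInstance
      refine ⟨?_, T, ?_⟩
      · intro h2
        obtain ⟨z, hz⟩ := exists_prime_orderOf_dvd_card' 2 h2
        refine Cfsg.Agent.H393.Iso.na_suz h x (z : K) hx (by rw [Subgroup.orderOf_coe, hz]) ?_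
        exact mem_centralizer_iff.1 z.2 x rfl
      · intro a j n hT hpa hj hn hpn hna' _
        have hT' : Nat.card T = 2 ^ 13 := by
          exact card_syl T (m := 54729675) (by rw [hK]; norm_num) (by norm_num)
        rw [hT'] at hT
        have h3 : 13 = a + j := Nat.pow_right_injective le_rfl hT
        have h4 : j ≤ 1 := by
          by_contra h5
          have h6 : 2 ^ 2 ∣ 10 := (pow_dvd_pow 2 (by omega)).trans hj
          norm_num at h6
        have h5 : a = 12 ∨ a = 13 := by omega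
        rcases h5 with rfl | rfl <;> norm_num at hpa
    · left
      intro i hi hdi
      have h3 : i ≤ 2 := by
        by_contra h5
        have h6 : 5 ^ 3 ∣ Nat.card K := (pow_dvd_pow 5 (by omega)).trans hdi
        rw [hK] at h6
        norm_num at h6
      interval_cases i <;> decide
  · obtain ⟨e⟩ := h
    have hfin := Finite.of_equiv K e.toEquiv
    exact (suz_sub Cfsg.Agent.SporadicRecognition.SuzOrder.card_Suz hd).congr e

end Cfsg.Agent.H566.NoE
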