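import Cfsg.Agent.H301.SY.Spor

/-!
# S3846: a subgroup of index prime to `p` (helper566)
-/

set_option autoImplicit false

namespace Cfsg.Agent.H566.NoE

open Cfsg Subgroup Cfsg.Agent.H459.Rad Cfsg.Agent.H301.SY

variable {K : Type*} [Group K] [Finite K] {p : ℕ} [hp : Fact p.Prime]

/-- a proper subgroup of index prime to `p` with radical of order prime to `p` -/
theorem of_index {L : Subgroup K} (hL : L ≠ ⊤) (hi : ¬ p ∣ L.index) (hr : ¬ p ∣ Nat.card (radIn L)) : NoE p K := by
  obtain ⟨S⟩ : Nonempty (Sylow p L) := inferInstance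
  have h1 : IsPGroup p ↥((S : Subgroup L).map L.subtype) := S.isPGroup'.map _
  obtain ⟨P, hP⟩ := h1.exists_le_sylow
  refine NoE.of_sylow hL P ?_ hr
  have h2 : (S : Subgroup L).map L.subtype = (P : Subgroup K) := by
    refine Subgroup.eq_of_le_of_card_ge hP ?_
    rw [Subgroup.card_map_of_injective L.subtype_injective, S.card_eq_multiplicity, P.card_eq_multiplicity]
    refine Nat.pow_le_pow_right hp.out.pos ?_
    rw [← L.card_mul_index, Nat.factorization_mul Nat.card_pos.ne' L.index_ne_zero_of_finite]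
    rw [Finsupp.add_apply, Nat.factorization_eq_zero_of_not_dvd hi, add_zero]
  rw [← h2]
  exact map_subtype_le _

/-- a simple subgroup -/
theorem rad_simple {Q : Type*} [Group Q] [Finite Q] [IsSimpleGroup Q] (hQ : ¬ Group.IsSolvable Q) {L : Subgroup K}
    (e : L ≃* Q) : ¬ p ∣ Nat.card (radIn L) := by
  have h1 : solvableRadical L ≤ e.toMonoidHom.ker := by
    intro z hz
    have h2 := map_rad_le (f := e.toMonoidHom) e.surjective hz
    rw [rad_eq_bot_of_simple hQ, mem_bot] at h2
    exact h2
  rw [(MonoidHom.ker_eq_bot_iff _).2 e.injective] at h1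
  have h2 : radIn L = ⊥ := by
    rw [radIn, le_bot_iff.1 h1, Subgroup.map_bot]
  rw [h2, card_bot]
  intro h
  exact hp.out.one_lt.ne' (Nat.dvd_one.1 h)

theorem not_solvable {Q : Type*} [Group Q] [IsSimpleGroup Q] (h : ¬ IsMulCommutative Q) : ¬ Group.IsSolvable Q := by
  intro hs
  exact h ⟨⟨(IsSimpleGroup.comm_iff_isSolvable (G := Q)).2 hs⟩⟩

theorem not_comm [IsSimpleGroup K] (h : ¬ (Nat.card K).Prime) : ¬ IsMulCommutative K := by
  intro hcom
  apply h
  letI : CommGroup K := { (inferInstance : Group K) with mul_comm := hcom.is_comm.comm }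
  exact IsSimpleGroup.prime_card (α := K)

theorem card_syl (T : Sylow p K) {n m : ℕ} (h : Nat.card K = p ^ n * m) (hm : ¬ p ∣ m) : Nat.card T = p ^ n := by
  rw [T.card_eq_multiplicity, h, Nat.factorization_mul (pow_ne_zero _ hp.out.ne_zero)
    (by rintro rfl; exact hm (dvd_zero _)), Finsupp.add_apply, hp.out.factorization_pow, Finsupp.single_eq_same,
    Nat.factorization_eq_zero_of_not_dvd hm, add_zero]

end Cfsg.Agent.H566.NoE
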